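import Cfsg.Agent.H360.CC.ParAbs
import Cfsg.Agent.H410.ParRGD

/-!
# Parity of the multiplicity of the principal series for root group data (helper360)

`R : RGD cs h p T n X` in the finite group `Y`, generating, `p` odd; `E` a `2`-group acting on `Y` by `f : E →* MulAut Y`,
normalizing `T` and all root groups and without fixed points in the `X z \ {1}`, `z` a positive root.

* `fixed_inv` : `E` has no fixed points in `U \ {1}`;
* `cell_map` : `E` fixes every double coset `B w B`;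
* `parity` : `⟨χ_B, 1⟩ ≡ χ(1)` modulo 2 for every irreducible constituent `χ` of `1_B^Y`.
-/

set_option autoImplicit false
set_option linter.unusedSectionVars false

namespace Cfsg.Agent.H360.CC

open Cfsg CoxeterSystem Cfsg.Agent.ChevalleyStructure.CoxeterGeom Cfsg.Agent.Tits.Roots Cfsg.Agent.Tits.Core
  Cfsg.Agent.Tits.Exchange Cfsg.Agent.Nodes.Comb Cfsg.Agent.Nodes.Reps Cfsg.Agent.Nodes.BNOf Cfsg.Agent.Nodes.Bruhat
  Cfsg.Agent.Nodes.StabComb

universe u

variable {I W : Type*} {Y : Type u} [Fintype I] [DecidableEq I] [Group W] [Group Y] {M : CoxeterMatrix I}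
  {cs : CoxeterSystem M W} {A : I → I → ℤ} {h : IsCartan M A} {p : ℕ} {T : Subgroup Y} {n : I → Y}
  {X : (I → ℤ) → Subgroup Y}

/-- **No fixed points in the unipotent groups.** -/
theorem fixed_inv [Finite W] (R : RGD cs h p T n X) (w : W) : ∀ (S : Set (MulAut Y))
    (_ : ∀ α ∈ S, ∀ z, IsRoot cs h z → ∀ x ∈ X z, α x ∈ X z)
    (_ : ∀ z ∈ RGD.Inv cs h w, ∀ x ∈ X z, (∀ α ∈ S, α x = x) → x = 1) (u : Y)
    (_ : u ∈ RGD.Sup X (RGD.Inv cs h w)) (_ : ∀ α ∈ S, α u = u), u = 1 := by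
  induction hn : cs.length w using Nat.strong_induction_on generalizing w with
  | _ k ih =>
  intro S hS hfix u hu hfu
  by_cases h1 : w = 1
  · subst h1
    rw [RGD.inv_one_eq] at hu
    have : RGD.Sup X (∅ : Set (I → ℤ)) = ⊥ := by
      rw [eq_bot_iff]
      exact RGD.Sup_le (fun z hz => absurd hz (by simp))
    rw [this] at hu
    exact hu
  obtain ⟨i, hi⟩ : ∃ i, cs.IsLeftDescent w i := cs.exists_leftDescent_of_ne_one h1
  have hlt : cs.length (cs.simple i * w) < cs.length w := hi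
  have hneg : rep cs h w⁻¹ (sr i) ≤ 0 := by
    refine nonpos_of_lt cs h w⁻¹ i ?_
    rw [cs.length_inv, ← cs.length_inv (w⁻¹ * cs.simple i), mul_inv_rev, inv_inv, cs.inv_simple]
    exact hlt
  have ih' := ih _ (hn ▸ hlt) (cs.simple i * w) rfl
  have hmem : sr i ∈ RGD.Inv cs h w := (RGD.mem_inv_iff hneg).2 (Or.inl rfl)
  have hsub : ∀ z ∈ RGD.Inv cs h w \ {sr i}, rep cs h (cs.simple i) z ∈ RGD.Inv cs h (cs.simple i * w) :=
    fun z hz => ((RGD.mem_inv_iff hneg).1 hz.1).resolve_left hz.2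
  -- decomposition
  obtain ⟨r, hr, v, hv, rfl⟩ := exists_mul R (S := RGD.Inv cs h w) (fun x hx => ⟨hx.1, hx.2.1⟩) hmem
    (fun y hy _ z hz => ⟨hz.1, RGD.nonneg_of_btwn (sr_nonneg i) hy.2.1 hz,
      RGD.nonpos_of_btwn hneg hy.2.2 (hz.act w⁻¹)⟩) hu
  -- the conjugate of the first factor
  have hconj : ∀ y ∈ RGD.Sup X (RGD.Inv cs h w \ {sr i}),
      (n i)⁻¹ * y * n i ∈ RGD.Sup X (RGD.Inv cs h (cs.simple i * w)) := by
    intro y hy
    refine conj_mem_Sup' R (rp_simple cs R.nsys i) (S := RGD.Inv cs h w \ {sr i}) (fun x hx => hx.1.1) ?_ hy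
    intro x hx
    rw [cs.inv_simple]
    exact hsub x hx
  have hSr : ∀ α ∈ S, α r ∈ RGD.Sup X (RGD.Inv cs h w \ {sr i}) := by
    intro α hα
    have h2 : RGD.Sup X (RGD.Inv cs h w \ {sr i}) ≤
        (RGD.Sup X (RGD.Inv cs h w \ {sr i})).comap α.toMonoidHom :=
      RGD.Sup_le fun z hz x hx => RGD.le_Sup (S := RGD.Inv cs h w \ {sr i}) hz (hS α hα z hz.1.1 x hx)
    exact h2 hr
  have hkn : Rp cs R.nsys (cs.simple i) (n i)⁻¹ := by
    have := (rp_simple cs R.nsys i).inv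
    rwa [cs.inv_simple] at this
  have hv1 : v = 1 := by
    refine hfix (sr i) hmem v hv fun α hα => ?_
    have h2 : α r * α v = r * v := by rw [← map_mul]; exact hfu α hα
    have h3 : v * (α v)⁻¹ = r⁻¹ * α r := by
      have : α r = r * v * (α v)⁻¹ := by rw [← h2]; group
      rw [this]; group
    have h4 : v * (α v)⁻¹ ∈ X (sr i) := mul_mem hv (inv_mem (hS α hα _ (isRoot_sr cs h i) v hv))
    have h5 : v * (α v)⁻¹ = 1 := by
      refine eq_one_of_conj_mem_B R h4 hkn ?_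
      rw [inv_inv, h3]
      exact RGD.U_le_B (RGD.Sup_mono (S := RGD.Inv cs h (cs.simple i * w)) (S' := RGD.Pos cs h)
        (fun z hz => ⟨hz.1, hz.2.1⟩) (hconj _ (mul_mem (inv_mem hr) (hSr α hα))))
    rw [mul_inv_eq_one] at h5
    exact h5.symm
  subst hv1
  rw [mul_one] at hfu ⊢
  -- the induction
  have key : (n i)⁻¹ * r * n i = 1 := by
    refine ih' {β | ∃ α ∈ S, β = (MulAut.conj (n i))⁻¹ * α * MulAut.conj (n i)} ?_ ?_ _ (hconj r hr) ?_
    · rintro _ ⟨α, hα, rfl⟩ z hz x hx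
      have h2 := hS α hα _ (hz.act _) _ (R.conj_mem (rp_simple cs R.nsys i) hz hx)
      have h3 := R.conj_mem' (rp_simple cs R.nsys i) (hz.act _) h2
      rw [← rep_mul_apply, inv_mul_cancel, map_one, Module.End.one_apply] at h3
      show (MulAut.conj (n i))⁻¹ (α (MulAut.conj (n i) x)) ∈ X z
      rw [← map_inv, MulAut.conj_apply, MulAut.conj_apply, inv_inv]
      exact h3
    · rintro z hz x hx hα
      have h2 : rep cs h (cs.simple i) z ∈ RGD.Inv cs h w := by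
        rw [RGD.mem_inv_iff hneg]
        right
        rw [← rep_mul_apply, cs.simple_mul_simple_self, map_one, Module.End.one_apply]
        exact hz
      have h3 := hfix _ h2 (n i * x * (n i)⁻¹) (R.conj_mem (rp_simple cs R.nsys i) hz.1 hx) fun α hαS => by
        have h4 := hα _ ⟨α, hαS, rfl⟩
        have h5 : (MulAut.conj (n i))⁻¹ (α (MulAut.conj (n i) x)) = x := h4
        rw [MulAut.inv_apply, MulEquiv.symm_apply_eq] at h5
        exact h5
      rw [mul_inv_eq_one] at h3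
      exact mul_eq_left.1 h3
    · rintro _ ⟨α, hα, rfl⟩
      show (MulAut.conj (n i))⁻¹ (α (MulAut.conj (n i) ((n i)⁻¹ * r * n i))) = _
      have h2 : MulAut.conj (n i) ((n i)⁻¹ * r * n i) = r := by
        rw [MulAut.conj_apply]; group
      rw [h2, hfu α hα, ← map_inv, MulAut.conj_apply, inv_inv]
  have h2 : r = n i * ((n i)⁻¹ * r * n i) * (n i)⁻¹ := by group
  rw [h2, key]; group

section

variable [Finite W] (R : RGD cs h p T n X) (α : MulAut Y)
  (hX : ∀ z, IsRoot cs h z → ∀ x ∈ X z, α x ∈ X z) (hT : ∀ t ∈ T, α t ∈ T)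

include hX in
omit [Finite W] in
theorem map_mem_Sup {S : Set (I → ℤ)} (hS : ∀ x ∈ S, IsRoot cs h x) {u : Y} (hu : u ∈ RGD.Sup X S) :
    α u ∈ RGD.Sup X S := by
  have h2 : RGD.Sup X S ≤ (RGD.Sup X S).comap α.toMonoidHom :=
    RGD.Sup_le fun z hz x hx => RGD.le_Sup (S := S) hz (hX z (hS z hz) x hx)
  exact h2 hu

include hX hT in
omit [Finite W] in
theorem map_mem_B {b : Y} (hb : b ∈ RGD.B cs h T X) : α b ∈ RGD.B cs h T X := by
  have h2 : RGD.B cs h T X ≤ (RGD.B cs h T X).comap α.toMonoidHom :=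
    sup_le (fun t ht => RGD.T_le_B (hT t ht))
      fun u hu => RGD.U_le_B (map_mem_Sup α hX (S := RGD.Pos cs h) (fun x hx => hx.1) hu)
  exact h2 hb

include hX hT in
omit [Finite W] in
theorem map_mem_LJ {J : Set I} {b : Y} (hb : b ∈ LJ cs h T X J) : α b ∈ LJ cs h T X J := by
  have h2 : LJ cs h T X J ≤ (LJ cs h T X J).comap α.toMonoidHom :=
    sup_le (fun t ht => T_le_LJ (hT t ht))
      fun u hu => (le_sup_right : RGD.Sup X (RootsJ cs h J) ≤ LJ cs h T X J)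
        (map_mem_Sup α hX (S := RootsJ cs h J) (fun x hx => hx.1) hu)
  exact h2 hb

include hX hT in
theorem cell_n (hinv : ∀ b ∈ RGD.B cs h T X, α⁻¹ b ∈ RGD.B cs h T X) (i : I) :
    Cell R.nsys cs h X (cs.simple i) (α (n i)) := by
  obtain ⟨w, hw, hc⟩ := exists_cellJ R (map_mem_LJ α hX hT (n_mem_LJ R (Set.mem_singleton i)))
  rcases H410.ParRGD.mem_WJ_singleton hw with rfl | rfl
  · exfalso
    have h1 := hinv _ (hc.cell.mem_of_one)
    rw [MulAut.inv_apply_self] at h1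
    have h5 := R.eq_one_of_mem_B (rp_simple cs R.nsys i) h1
    have h6 := cs.length_simple i
    rw [h5, cs.length_one] at h6
    exact absurd h6 (by decide)
  · exact hc.cell

include hX hT in
theorem cell_rp (hinv : ∀ b ∈ RGD.B cs h T X, α⁻¹ b ∈ RGD.B cs h T X) (w : W) :
    ∀ k : Y, Rp cs R.nsys w k → Cell R.nsys cs h X w (α k) := by
  induction hn : cs.length w using Nat.strong_induction_on generalizing w with
  | _ N ih =>
  intro k hk
  by_cases h1 : w = 1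
  · subst h1
    exact cell_one_of_mem (RGD.T_le_B (hT k hk.mem_of_one))
  obtain ⟨i, hi⟩ : ∃ i, cs.IsLeftDescent w i := cs.exists_leftDescent_of_ne_one h1
  have hlt : cs.length (cs.simple i * w) < cs.length w := hi
  have hlen : cs.length w = cs.length (cs.simple i * w) + 1 := by
    have := cs.length_simple_mul w i
    omega
  have hk' : Rp cs R.nsys (cs.simple i * w) ((n i)⁻¹ * k) := by
    have := (rp_simple cs R.nsys i).inv.mul hk
    rwa [cs.inv_simple] at this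
  have h2 := ih _ (hn ▸ hlt) (cs.simple i * w) rfl _ hk'
  have h3 := Cell.mul_of_length R (v := cs.simple i) (w := cs.simple i * w) (by
    rw [← mul_assoc, cs.simple_mul_simple_self, one_mul, cs.length_simple, hlen, add_comm])
    (cell_n R α hX hT hinv i) h2
  rwa [← mul_assoc, cs.simple_mul_simple_self, one_mul, ← map_mul, mul_inv_cancel_left] at h3

include hX hT in
/-- **The automorphism fixes every double coset.** -/
theorem cell_map (hinv : ∀ b ∈ RGD.B cs h T X, α⁻¹ b ∈ RGD.B cs h T X) {w : W} {g : Y}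
    (hg : Cell R.nsys cs h X w g) : Cell R.nsys cs h X w (α g) := by
  obtain ⟨b₁, hb₁, k, hk, b₂, hb₂, rfl⟩ := hg
  rw [map_mul, map_mul]
  exact ((cell_rp R α hX hT hinv w k hk).mul_left (map_mem_B α hX hT hb₁)).mul_right (map_mem_B α hX hT hb₂)

end

/-- **Parity of the multiplicity `⟨χ_B, 1⟩`.** -/
theorem parity [Finite W] [Finite Y] [Fact p.Prime] (hp2 : p ≠ 2) (R : RGD cs h p T n X) (hG : GG cs h T X = ⊤)
    {E : Type*} [Group E] (hE : IsPGroup 2 E) (f : E →* MulAut Y)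
    (hX : ∀ e z, IsRoot cs h z → ∀ x ∈ X z, f e x ∈ X z) (hT : ∀ e, ∀ t ∈ T, f e t ∈ T)
    (hfix : ∀ z, IsRoot cs h z → 0 ≤ z → ∀ x ∈ X z, (∀ e, f e x = x) → x = 1)
    [Fintype (RGD.B cs h T X)] {χ : Y → ℂ} (hχ : IsIrrCharacter Y χ) (h0 : ∑ b : RGD.B cs h T X, χ b ≠ 0) :
    ∃ m : ℕ, ∑ b : RGD.B cs h T X, χ b = (Nat.card (RGD.B cs h T X) : ℂ) * m ∧ (2 ∣ charDegree χ ↔ 2 ∣ m) := by
  have hinv : ∀ e, ∀ b ∈ RGD.B cs h T X, (f e)⁻¹ b ∈ RGD.B cs h T X := by
    intro e b hb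
    rw [← map_inv]
    exact map_mem_B _ (hX e⁻¹) (hT e⁻¹) hb
  refine parity_abs (U := RGD.Sup X (RGD.Pos cs h)) (T := T) (B := RGD.B cs h T X) RGD.U_le_B
    (fun b hb => R.mem_B.1 hb) ?_ ?_ hE f
    (fun e u hu => map_mem_Sup (f e) (hX e) (S := RGD.Pos cs h) (fun x hx => hx.1) hu) ?_ ?_ ?_ hχ h0
  · intro t ht u hu
    exact (Subgroup.mem_normalizer_iff.1 (R.T_le_normalizer_U ht) u).1 hu
  · intro y
    obtain ⟨w, b₁, hb₁, k, hk, b₂, hb₂, e⟩ := (mem_GG R).1 (show y ∈ GG cs h T X by rw [hG]; exact Subgroup.mem_top y)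
    have hkT : ∀ t ∈ T, k⁻¹ * t * k ∈ T := by
      intro t ht
      have h1 := (mem_normalizer_iff_cj.1 hk.inv.mem_normalizer)
      have h2 : k⁻¹ * t * k⁻¹⁻¹ ∈ cj k⁻¹ T := conj_mem_cj.2 ht
      rwa [h1, inv_inv] at h2
    obtain ⟨t, ht, u, hu, e'⟩ := R.mem_B.1 (inv_mem hb₁)
    have hb : b₁ = u⁻¹ * t⁻¹ := by
      rw [← inv_inv b₁, e']; group
    refine ⟨u⁻¹, inv_mem hu, k, fun t ht => RGD.T_le_B (hkT t ht), (k⁻¹ * t⁻¹ * k) * b₂,
      mul_mem (RGD.T_le_B (hkT _ (inv_mem ht))) hb₂, ?_⟩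
    rw [e, hb]
    group
  · intro u hu hfu
    obtain ⟨w, hw⟩ := RGD.exists_inv_eq_pos (cs := cs) (h := h)
    refine fixed_inv R w (Set.range f) ?_ ?_ u (by rw [hw]; exact hu) ?_
    · rintro _ ⟨e, rfl⟩ z hz x hx
      exact hX e z hz x hx
    · intro z hz x hx h1
      exact hfix z hz.1 hz.2.1 x hx fun e => h1 _ ⟨e, rfl⟩
    · rintro _ ⟨e, rfl⟩
      exact hfu e
  · have h1 := R.isPGroup_Upos
    rw [IsPGroup.iff_card] at h1
    obtain ⟨k, hk⟩ := h1
    rw [hk]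
    intro h2
    have hp : p.Prime := Fact.out
    have h3 := (Nat.prime_dvd_prime_iff_eq Nat.prime_two hp).1 (Nat.prime_two.dvd_of_dvd_pow h2)
    exact hp2 h3.symm
  · intro e g
    obtain ⟨w, hw⟩ := (mem_GG R).1 (show g ∈ GG cs h T X by rw [hG]; exact Subgroup.mem_top g)
    have h1 := cell_map R (f e) (hX e) (hT e) (hinv e) hw
    obtain ⟨b₁, hb₁, k, hk, b₂, hb₂, e1⟩ := hw
    obtain ⟨c₁, hc₁, k', hk', c₂, hc₂, e2⟩ := h1
    have ht : k⁻¹ * k' ∈ T := hk.unique hk'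
    refine ⟨c₁ * b₁⁻¹, mul_mem hc₁ (inv_mem hb₁), b₂⁻¹ * (k⁻¹ * k') * c₂,
      mul_mem (mul_mem (inv_mem hb₂) (RGD.T_le_B ht)) hc₂, ?_⟩
    rw [e2, e1]
    group

end Cfsg.Agent.H360.CC
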