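import Cfsg.Agent.H439.CC.Defs
import Cfsg.Agent.H360.CC.ParRgd

/-!
# Block (C), parity, in the interface of `H439/CC/Defs` (helper360)

* `par2` : `Par2 cs h T X` for a root group datum of odd characteristic and a `2`-group `E` of automorphisms normalizing
  `T` and all root groups, without fixed points in the `X z \ {1}`, `z` positive.
-/

set_option autoImplicit false
set_option linter.unusedSectionVars false

namespace Cfsg.Agent.H360.CC

open Cfsg CoxeterSystem Cfsg.Agent.ChevalleyStructure.CoxeterGeom Cfsg.Agent.Tits.Roots Cfsg.Agent.Tits.Core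
  Cfsg.Agent.Tits.Exchange Cfsg.Agent.Nodes.Comb Cfsg.Agent.Nodes.Reps Cfsg.Agent.Nodes.BNOf Cfsg.Agent.Nodes.Bruhat
  Cfsg.Agent.Nodes.StabComb

universe u

variable {I W : Type*} {Y : Type u} [Fintype I] [DecidableEq I] [Group W] [Group Y] {M : CoxeterMatrix I}
  {cs : CoxeterSystem M W} {A : I → I → ℤ} {h : IsCartan M A} {p : ℕ} {T : Subgroup Y} {n : I → Y}
  {X : (I → ℤ) → Subgroup Y}

/-- the generation hypotheses -/
theorem GG_eq_top (R : RGD cs h p T n X) (hgen : RGD.B cs h T X ⊔ NN cs R.nsys = ⊤) : GG cs h T X = ⊤ := by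
  rw [eq_top_iff, ← hgen]
  exact sup_le B_le_GG (NN_le_GG R)

/-- **(C) parity** -/
theorem par2 [Finite W] [Finite Y] [Fact p.Prime] (hp2 : p ≠ 2) (R : RGD cs h p T n X)
    (hgen : RGD.B cs h T X ⊔ NN cs R.nsys = ⊤)
    {E : Type*} [Group E] (hE : IsPGroup 2 E) (f : E →* MulAut Y)
    (hX : ∀ e z, IsRoot cs h z → ∀ x ∈ X z, f e x ∈ X z) (hT : ∀ e, ∀ t ∈ T, f e t ∈ T)
    (hfix : ∀ z, IsRoot cs h z → 0 ≤ z → ∀ x ∈ X z, (∀ e, f e x = x) → x = 1) :
    Cfsg.Agent.H439.CC.Par2 cs h T X := by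
  classical
  intro χ hχ
  have := Fintype.ofFinite (RGD.B cs h T X)
  unfold Cfsg.Agent.H439.CC.mu at hχ ⊢
  rw [finsum_eq_sum_of_fintype] at hχ ⊢
  obtain ⟨m, hm, h2⟩ := parity hp2 R (GG_eq_top R hgen) hE f hX hT hfix χ.2 (right_ne_zero_of_mul hχ)
  refine ⟨m, ?_, h2⟩
  have hB : (Nat.card (RGD.B cs h T X) : ℂ) ≠ 0 := by exact_mod_cast Nat.card_pos.ne'
  rw [hm, inv_mul_cancel_left₀ hB]

end Cfsg.Agent.H360.CC
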